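import Mathlib

/-!
# Order types of semidirect products with abelian kernel

Support for the explicit pair of groups, one soluble and one not, with the same order type.
-/

set_option autoImplicit false

namespace Cfsg.Agent.Lib.OrderType

open Finset

/-- An action of a group on an additive group by endomorphisms. -/
structure Act (V H : Type) [AddCommGroup V] [Group H] where
  /-- the action -/
  act : H → V → V
  add : ∀ h u v, act h (u + v) = act h u + act h v
  one : ∀ v, act 1 v = v
  mul : ∀ g h v, act (g * h) v = act g (act h v)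

variable {V H : Type} [AddCommGroup V] [Group H]

theorem act_zero (A : Act V H) (h : H) : A.act h 0 = 0 := by
  simpa using A.add h 0 0

/-- The semidirect product. -/
@[ext] structure Aff (A : Act V H) where
  /-- kernel part -/
  v : V
  /-- complement part -/
  h : H

instance affGroup (A : Act V H) : Group (Aff A) where
  mul x y := ⟨x.v + A.act x.h y.v, x.h * y.h⟩
  one := ⟨0, 1⟩
  inv x := ⟨A.act x.h⁻¹ (-x.v), x.h⁻¹⟩
  mul_assoc x y z := Aff.ext
    (show x.v + A.act x.h y.v + A.act (x.h * y.h) z.v = x.v + A.act x.h (y.v + A.act y.h z.v) by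
      rw [A.add, A.mul, add_assoc])
    (mul_assoc _ _ _)
  one_mul x := Aff.ext (show 0 + A.act 1 x.v = x.v by rw [A.one, zero_add]) (one_mul _)
  mul_one x := Aff.ext (show x.v + A.act x.h 0 = x.v by rw [act_zero, add_zero]) (mul_one _)
  inv_mul_cancel x := Aff.ext
    (show A.act x.h⁻¹ (-x.v) + A.act x.h⁻¹ x.v = 0 by rw [← A.add, neg_add_cancel, act_zero])
    (inv_mul_cancel _)

/-- As a product. -/
def affEquiv (A : Act V H) : Aff A ≃ V × H where
  toFun x := (x.v, x.h)
  invFun p := ⟨p.1, p.2⟩
  left_inv _ := rfl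
  right_inv _ := rfl

instance affFinite (A : Act V H) [Finite V] [Finite H] : Finite (Aff A) :=
  Finite.of_equiv _ (affEquiv A).symm

/-- `v + h v + ... + h^(n-1) v`. -/
def normSum (A : Act V H) (h : H) (v : V) : ℕ → V
  | 0 => 0
  | n + 1 => v + A.act h (normSum A h v n)

theorem pow_aff (A : Act V H) (x : Aff A) (n : ℕ) :
    x ^ n = ⟨normSum A x.h x.v n, x.h ^ n⟩ := by
  induction n with
  | zero => rw [pow_zero, pow_zero]; rfl
  | succ n ih =>
    rw [pow_succ' x, ih, pow_succ' x.h]
    rfl

/-- Number of solutions of `g ^ n = 1`. -/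
noncomputable def powCount (G : Type) [Group G] (n : ℕ) : ℕ := Nat.card {g : G // g ^ n = 1}

theorem powCount_aff [Fintype V] [Fintype H] [DecidableEq V] [DecidableEq H] (A : Act V H)
    (n : ℕ) : powCount (Aff A) n =
      ∑ h : H, if h ^ n = 1 then #{v : V | normSum A h v n = 0} else 0 := by
  have e : {g : Aff A // g ^ n = 1} ≃
      Σ h : H, {v : V // h ^ n = 1 ∧ normSum A h v n = 0} :=
    { toFun := fun g => ⟨g.1.h, g.1.v, by
        have := g.2
        rw [pow_aff] at this
        exact ⟨congrArg Aff.h this, congrArg Aff.v this⟩⟩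
      invFun := fun p => ⟨⟨p.2.1, p.1⟩, by
        rw [pow_aff]
        exact Aff.ext p.2.2.2 p.2.2.1⟩
      left_inv := fun _ => rfl
      right_inv := fun _ => rfl }
  rw [powCount, Nat.card_congr e, Nat.card_sigma]
  refine sum_congr rfl fun h _ => ?_
  rw [Nat.card_eq_fintype_card, Fintype.card_subtype]
  split_ifs with hh
  · simp [hh]
  · simp [hh]

theorem card_aff (A : Act V H) : Nat.card (Aff A) = Nat.card V * Nat.card H := by
  rw [Nat.card_congr (affEquiv A), Nat.card_prod]

theorem isSolvable_aff (A : Act V H) (hH : Group.IsSolvable H) : Group.IsSolvable (Aff A) := by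
  let π : Aff A →* H := { toFun := Aff.h, map_one' := rfl, map_mul' := fun _ _ => rfl }
  let ι : Multiplicative V →* Aff A :=
    { toFun := fun v => ⟨Multiplicative.toAdd v, 1⟩
      map_one' := rfl
      map_mul' := fun u v => Aff.ext
        (show Multiplicative.toAdd u + Multiplicative.toAdd v =
          Multiplicative.toAdd u + A.act 1 (Multiplicative.toAdd v) by rw [A.one])
        (one_mul (1 : H)).symm }
  exact Group.isSolvable_of_ker_le_range ι π fun x hx =>
    ⟨Multiplicative.ofAdd x.v, Aff.ext rfl (MonoidHom.mem_ker.1 hx).symm⟩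

/-! ## Scalar actions on a product of prime fields -/

/-- The action through characters `χ i`. -/
def scalarAct {r : ℕ} (p : Fin r → ℕ) (χ : H → ∀ i, ZMod (p i)) (h1 : ∀ i, χ 1 i = 1)
    (hm : ∀ g h i, χ (g * h) i = χ g i * χ h i) : Act (∀ i, ZMod (p i)) H where
  act h v i := χ h i * v i
  add h u v := funext fun i => mul_add _ _ _
  one v := funext fun i => by simp [h1]
  mul g h v := funext fun i => by rw [hm, mul_assoc]

/-- `1 + u + ... + u^(n-1)` -/
def geom {R : Type} [Semiring R] (u : R) : ℕ → R
  | 0 => 0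
  | n + 1 => 1 + u * geom u n

theorem normSum_scalarAct {r : ℕ} (p : Fin r → ℕ) (χ : H → ∀ i, ZMod (p i))
    (h1 : ∀ i, χ 1 i = 1) (hm : ∀ g h i, χ (g * h) i = χ g i * χ h i) (h : H)
    (v : ∀ i, ZMod (p i)) (n : ℕ) (i : Fin r) :
    normSum (scalarAct p χ h1 hm) h v n i = geom (χ h i) n * v i := by
  induction n with
  | zero => simp [normSum, geom]
  | succ n ih =>
    show v i + χ h i * normSum (scalarAct p χ h1 hm) h v n i = (1 + χ h i * geom (χ h i) n) * v i
    rw [ih, add_mul, one_mul, mul_assoc]

theorem powCount_scalar {r : ℕ} (p : Fin r → ℕ) (hp : ∀ i, (p i).Prime) [Fintype H] [DecidableEq H]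
    (χ : H → ∀ i, ZMod (p i))
    (h1 : ∀ i, χ 1 i = 1) (hm : ∀ g h i, χ (g * h) i = χ g i * χ h i) (n : ℕ) :
    powCount (Aff (scalarAct p χ h1 hm)) n =
      ∑ h : H, if h ^ n = 1 then ∏ i, (if geom (χ h i) n = 0 then p i else 1) else 0 := by
  have : ∀ i, NeZero (p i) := fun i => ⟨(hp i).ne_zero⟩
  rw [powCount_aff]
  refine sum_congr rfl fun h _ => if_congr Iff.rfl ?_ rfl
  have e : ∀ i, Nat.card {x : ZMod (p i) // geom (χ h i) n * x = 0} =
      if geom (χ h i) n = 0 then p i else 1 := fun i => by
    have := Fact.mk (hp i)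
    split_ifs with h0
    · simp [h0]
    · simp [h0]
  rw [← Fintype.card_subtype, ← Nat.card_eq_fintype_card,
    ← Finset.prod_congr rfl (fun i _ => e i), ← Nat.card_pi]
  exact Nat.card_congr ((Equiv.subtypeEquivRight fun v => by
    simp [funext_iff, normSum_scalarAct]).trans Equiv.subtypePiEquivPi)

/-! ## Counting in products -/

theorem powCount_prod (A B : Type) [Group A] [Group B] (n : ℕ) :
    powCount (A × B) n = powCount A n * powCount B n := by
  rw [powCount, powCount, powCount, ← Nat.card_prod]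
  exact Nat.card_congr ((Equiv.subtypeEquivRight fun g => by simp [Prod.ext_iff]).trans
    (Equiv.subtypeProdEquivProd))

theorem powCount_pi (A : Type) [Group A] (k n : ℕ) :
    powCount (Fin k → A) n = powCount A n ^ k := by
  have h : Nat.card (Fin k → {g : A // g ^ n = 1}) = powCount A n ^ k := by
    rw [Nat.card_fun, Nat.card_fin]; rfl
  rw [← h]
  exact Nat.card_congr ((Equiv.subtypeEquivRight fun g => by simp [funext_iff]).trans
    Equiv.subtypePiEquivPi)

theorem isSolvable_pi (A : Type) [Group A] (hA : Group.IsSolvable A) (k : ℕ) :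
    Group.IsSolvable (Fin k → A) := by
  obtain ⟨n, hn⟩ := (Group.isSolvable_def A).1 hA
  refine (Group.isSolvable_def _).2 ⟨n, eq_bot_iff.2 fun x hx => funext fun i => ?_⟩
  have h := map_derivedSeries_le_derivedSeries (Pi.evalMonoidHom (fun _ : Fin k => A) i) n
    (Subgroup.mem_map_of_mem _ hx)
  rw [hn] at h
  exact h

theorem powCount_eq_gcd {G : Type} [Group G] [Finite G] {E : ℕ}
    (hE : powCount G E = Nat.card G) (n : ℕ) : powCount G n = powCount G (n.gcd E) := by
  have hall : ∀ g : G, g ^ E = 1 := fun g => by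
    by_contra hg
    have : Finite {g : G // g ^ E = 1} := inferInstance
    have h := Finite.card_subtype_lt (p := fun x : G => x ^ E = 1) hg
    rw [← hE] at h
    exact lt_irrefl _ h
  refine Nat.card_congr (Equiv.subtypeEquivRight fun g => ?_)
  rw [← orderOf_dvd_iff_pow_eq_one, ← orderOf_dvd_iff_pow_eq_one, Nat.dvd_gcd_iff]
  exact ⟨fun h => ⟨h, orderOf_dvd_of_pow_eq_one (hall g)⟩, And.left⟩

end Cfsg.Agent.Lib.OrderType
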