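import Cfsg.Agent.Lib.OrderType.Basic

/-!
# Factors of the pair of groups with the same order type
-/

set_option autoImplicit false

namespace Cfsg.Agent.Lib.OrderType

/-- Divisors of 84. -/
def divs : List ℕ := [1, 2, 3, 4, 6, 7, 12, 14, 21, 28, 42, 84]

/-- Table lookup. -/
def tab (l : List ℕ) (d : ℕ) : ℕ := l.getD (divs.idxOf d) 0

/-- `G` has the solution counts `f` (depending on `gcd n 84` only). -/
def HasCount (G : Type) [Group G] (f : ℕ → ℕ) : Prop := ∀ n, powCount G n = f (n.gcd 84)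

theorem gcd_mem_divs (n : ℕ) : n.gcd 84 ∈ divs := by
  have h : n.gcd 84 ∈ Nat.divisors 84 :=
    Nat.mem_divisors.2 ⟨Nat.gcd_dvd_right _ _, by norm_num⟩
  have hall : ∀ d ∈ Nat.divisors 84, d ∈ divs := by decide +kernel
  exact hall _ h

theorem HasCount.mk {G : Type} [Group G] [Finite G] {f : ℕ → ℕ} (hE : f 84 = Nat.card G)
    (h : ∀ d ∈ divs, powCount G d = f d) : HasCount G f := fun n => by
  rw [powCount_eq_gcd (E := 84) (by rw [h 84 (by decide), hE]) n, h _ (gcd_mem_divs n)]

theorem HasCount.prod {A B : Type} [Group A] [Group B] {f g : ℕ → ℕ} (hA : HasCount A f)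
    (hB : HasCount B g) : HasCount (A × B) (fun d => f d * g d) := fun n => by
  rw [powCount_prod, hA n, hB n]

theorem HasCount.pi {A : Type} [Group A] {f : ℕ → ℕ} (hA : HasCount A f) (k : ℕ) :
    HasCount (Fin k → A) (fun d => f d ^ k) := fun n => by
  rw [powCount_pi, hA n]

/-- Product of two cyclic groups. -/
abbrev Cyc (a b : ℕ) := Multiplicative (ZMod a × ZMod b)

/-- primes of factor 0 -/
abbrev p0 : Fin 2 → ℕ := ![3, 7]

/-- characters of factor 0 -/
def chi0 (h : Cyc 2 1) (i : Fin 2) : ZMod (p0 i) :=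
  ((![2, 6] : Fin 2 → ℕ) i : ZMod (p0 i)) ^ (Multiplicative.toAdd h).1.val *
    ((![1, 1] : Fin 2 → ℕ) i : ZMod (p0 i)) ^ (Multiplicative.toAdd h).2.val

theorem chi0_one : ∀ i, chi0 1 i = 1 := by decide +kernel

theorem chi0_mul : ∀ g h i, chi0 (g * h) i = chi0 g i * chi0 h i := by decide +kernel

theorem p0_prime : ∀ i, (p0 i).Prime := by decide +kernel

/-- factor 0 -/
abbrev T0 := Aff (scalarAct p0 chi0 chi0_one chi0_mul)

instance fin0 : Finite T0 :=
  have : ∀ i, NeZero (p0 i) := fun i => ⟨(p0_prime i).ne_zero⟩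
  affFinite _

theorem solvable0 : Group.IsSolvable T0 := isSolvable_aff _ (Group.isSolvable_of_comm mul_comm)

theorem count0 : HasCount T0 (tab [1, 22, 3, 22, 24, 7, 24, 28, 21, 28, 42, 42]) := by
  refine HasCount.mk ?_ fun d hd => ?_
  · rw [card_aff, Nat.card_pi]
    simp only [Nat.card_zmod, Nat.card_congr Multiplicative.toAdd, Nat.card_prod, Fin.prod_univ_succ,
      Fin.prod_univ_zero]
    decide +kernel
  · rw [powCount_scalar _ p0_prime]
    revert d
    decide +kernel

/-- primes of factor 2 -/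
abbrev p2 : Fin 1 → ℕ := ![2]

/-- characters of factor 2 -/
def chi2 (h : Cyc 1 1) (i : Fin 1) : ZMod (p2 i) :=
  ((![1] : Fin 1 → ℕ) i : ZMod (p2 i)) ^ (Multiplicative.toAdd h).1.val *
    ((![1] : Fin 1 → ℕ) i : ZMod (p2 i)) ^ (Multiplicative.toAdd h).2.val

theorem chi2_one : ∀ i, chi2 1 i = 1 := by decide +kernel

theorem chi2_mul : ∀ g h i, chi2 (g * h) i = chi2 g i * chi2 h i := by decide +kernel

theorem p2_prime : ∀ i, (p2 i).Prime := by decide +kernel

/-- factor 2 -/
abbrev T2 := Aff (scalarAct p2 chi2 chi2_one chi2_mul)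

instance fin2 : Finite T2 :=
  have : ∀ i, NeZero (p2 i) := fun i => ⟨(p2_prime i).ne_zero⟩
  affFinite _

theorem solvable2 : Group.IsSolvable T2 := isSolvable_aff _ (Group.isSolvable_of_comm mul_comm)

theorem count2 : HasCount T2 (tab [1, 2, 1, 2, 2, 1, 2, 2, 1, 2, 2, 2]) := by
  refine HasCount.mk ?_ fun d hd => ?_
  · rw [card_aff, Nat.card_pi]
    simp only [Nat.card_zmod, Nat.card_congr Multiplicative.toAdd, Nat.card_prod, Fin.prod_univ_succ,
      Fin.prod_univ_zero]
    decide +kernel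
  · rw [powCount_scalar _ p2_prime]
    revert d
    decide +kernel

/-- primes of factor 3 -/
abbrev p3 : Fin 0 → ℕ := ![]

/-- characters of factor 3 -/
def chi3 (h : Cyc 4 1) (i : Fin 0) : ZMod (p3 i) :=
  ((![] : Fin 0 → ℕ) i : ZMod (p3 i)) ^ (Multiplicative.toAdd h).1.val *
    ((![] : Fin 0 → ℕ) i : ZMod (p3 i)) ^ (Multiplicative.toAdd h).2.val

theorem chi3_one : ∀ i, chi3 1 i = 1 := by decide +kernel

theorem chi3_mul : ∀ g h i, chi3 (g * h) i = chi3 g i * chi3 h i := by decide +kernel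

theorem p3_prime : ∀ i, (p3 i).Prime := by decide +kernel

/-- factor 3 -/
abbrev T3 := Aff (scalarAct p3 chi3 chi3_one chi3_mul)

instance fin3 : Finite T3 :=
  have : ∀ i, NeZero (p3 i) := fun i => ⟨(p3_prime i).ne_zero⟩
  affFinite _

theorem solvable3 : Group.IsSolvable T3 := isSolvable_aff _ (Group.isSolvable_of_comm mul_comm)

theorem count3 : HasCount T3 (tab [1, 2, 1, 4, 2, 1, 4, 2, 1, 4, 2, 4]) := by
  refine HasCount.mk ?_ fun d hd => ?_
  · rw [card_aff, Nat.card_pi]
    simp only [Nat.card_zmod, Nat.card_congr Multiplicative.toAdd, Nat.card_prod, Fin.prod_univ_succ,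
      Fin.prod_univ_zero]
    decide +kernel
  · rw [powCount_scalar _ p3_prime]
    revert d
    decide +kernel

/-- primes of factor 4 -/
abbrev p4 : Fin 2 → ℕ := ![3, 7]

/-- characters of factor 4 -/
def chi4 (h : Cyc 4 1) (i : Fin 2) : ZMod (p4 i) :=
  ((![2, 6] : Fin 2 → ℕ) i : ZMod (p4 i)) ^ (Multiplicative.toAdd h).1.val *
    ((![1, 1] : Fin 2 → ℕ) i : ZMod (p4 i)) ^ (Multiplicative.toAdd h).2.val

theorem chi4_one : ∀ i, chi4 1 i = 1 := by decide +kernel

theorem chi4_mul : ∀ g h i, chi4 (g * h) i = chi4 g i * chi4 h i := by decide +kernel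

theorem p4_prime : ∀ i, (p4 i).Prime := by decide +kernel

/-- factor 4 -/
abbrev T4 := Aff (scalarAct p4 chi4 chi4_one chi4_mul)

instance fin4 : Finite T4 :=
  have : ∀ i, NeZero (p4 i) := fun i => ⟨(p4_prime i).ne_zero⟩
  affFinite _

theorem solvable4 : Group.IsSolvable T4 := isSolvable_aff _ (Group.isSolvable_of_comm mul_comm)

theorem count4 : HasCount T4 (tab [1, 2, 3, 44, 6, 7, 48, 14, 21, 56, 42, 84]) := by
  refine HasCount.mk ?_ fun d hd => ?_
  · rw [card_aff, Nat.card_pi]
    simp only [Nat.card_zmod, Nat.card_congr Multiplicative.toAdd, Nat.card_prod, Fin.prod_univ_succ,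
      Fin.prod_univ_zero]
    decide +kernel
  · rw [powCount_scalar _ p4_prime]
    revert d
    decide +kernel

/-- primes of factor 5 -/
abbrev p5 : Fin 1 → ℕ := ![7]

/-- characters of factor 5 -/
def chi5 (h : Cyc 6 1) (i : Fin 1) : ZMod (p5 i) :=
  ((![3] : Fin 1 → ℕ) i : ZMod (p5 i)) ^ (Multiplicative.toAdd h).1.val *
    ((![1] : Fin 1 → ℕ) i : ZMod (p5 i)) ^ (Multiplicative.toAdd h).2.val

theorem chi5_one : ∀ i, chi5 1 i = 1 := by decide +kernel

theorem chi5_mul : ∀ g h i, chi5 (g * h) i = chi5 g i * chi5 h i := by decide +kernel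

theorem p5_prime : ∀ i, (p5 i).Prime := by decide +kernel

/-- factor 5 -/
abbrev T5 := Aff (scalarAct p5 chi5 chi5_one chi5_mul)

instance fin5 : Finite T5 :=
  have : ∀ i, NeZero (p5 i) := fun i => ⟨(p5_prime i).ne_zero⟩
  affFinite _

theorem solvable5 : Group.IsSolvable T5 := isSolvable_aff _ (Group.isSolvable_of_comm mul_comm)

theorem count5 : HasCount T5 (tab [1, 8, 15, 8, 36, 7, 36, 14, 21, 14, 42, 42]) := by
  refine HasCount.mk ?_ fun d hd => ?_
  · rw [card_aff, Nat.card_pi]
    simp only [Nat.card_zmod, Nat.card_congr Multiplicative.toAdd, Nat.card_prod, Fin.prod_univ_succ,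
      Fin.prod_univ_zero]
    decide +kernel
  · rw [powCount_scalar _ p5_prime]
    revert d
    decide +kernel

/-- primes of factor 7 -/
abbrev p7 : Fin 3 → ℕ := ![7, 7, 7]

/-- characters of factor 7 -/
def chi7 (h : Cyc 2 6) (i : Fin 3) : ZMod (p7 i) :=
  ((![1, 6, 6] : Fin 3 → ℕ) i : ZMod (p7 i)) ^ (Multiplicative.toAdd h).1.val *
    ((![3, 1, 3] : Fin 3 → ℕ) i : ZMod (p7 i)) ^ (Multiplicative.toAdd h).2.val

theorem chi7_one : ∀ i, chi7 1 i = 1 := by decide +kernel

theorem chi7_mul : ∀ g h i, chi7 (g * h) i = chi7 g i * chi7 h i := by decide +kernel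

theorem p7_prime : ∀ i, (p7 i).Prime := by decide +kernel

/-- factor 7 -/
abbrev T7 := Aff (scalarAct p7 chi7 chi7_one chi7_mul)

instance fin7 : Finite T7 :=
  have : ∀ i, NeZero (p7 i) := fun i => ⟨(p7_prime i).ne_zero⟩
  affFinite _

theorem solvable7 : Group.IsSolvable T7 := isSolvable_aff _ (Group.isSolvable_of_comm mul_comm)

theorem count7 : HasCount T7 (tab [1, 148, 99, 148, 1716, 343, 1716, 1372, 1029, 1372, 4116, 4116]) := by
  refine HasCount.mk ?_ fun d hd => ?_
  · rw [card_aff, Nat.card_pi]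
    simp only [Nat.card_zmod, Nat.card_congr Multiplicative.toAdd, Nat.card_prod, Fin.prod_univ_succ,
      Fin.prod_univ_zero]
    decide +kernel
  · rw [powCount_scalar _ p7_prime]
    revert d
    decide +kernel

/-- primes of factor 8 -/
abbrev p8 : Fin 3 → ℕ := ![3, 7, 7]

/-- characters of factor 8 -/
def chi8 (h : Cyc 2 1) (i : Fin 3) : ZMod (p8 i) :=
  ((![2, 6, 6] : Fin 3 → ℕ) i : ZMod (p8 i)) ^ (Multiplicative.toAdd h).1.val *
    ((![1, 1, 1] : Fin 3 → ℕ) i : ZMod (p8 i)) ^ (Multiplicative.toAdd h).2.val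

theorem chi8_one : ∀ i, chi8 1 i = 1 := by decide +kernel

theorem chi8_mul : ∀ g h i, chi8 (g * h) i = chi8 g i * chi8 h i := by decide +kernel

theorem p8_prime : ∀ i, (p8 i).Prime := by decide +kernel

/-- factor 8 -/
abbrev T8 := Aff (scalarAct p8 chi8 chi8_one chi8_mul)

instance fin8 : Finite T8 :=
  have : ∀ i, NeZero (p8 i) := fun i => ⟨(p8_prime i).ne_zero⟩
  affFinite _

theorem solvable8 : Group.IsSolvable T8 := isSolvable_aff _ (Group.isSolvable_of_comm mul_comm)

theorem count8 : HasCount T8 (tab [1, 148, 3, 148, 150, 49, 150, 196, 147, 196, 294, 294]) := by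
  refine HasCount.mk ?_ fun d hd => ?_
  · rw [card_aff, Nat.card_pi]
    simp only [Nat.card_zmod, Nat.card_congr Multiplicative.toAdd, Nat.card_prod, Fin.prod_univ_succ,
      Fin.prod_univ_zero]
    decide +kernel
  · rw [powCount_scalar _ p8_prime]
    revert d
    decide +kernel

/-- primes of factor 9 -/
abbrev p9 : Fin 1 → ℕ := ![7]

/-- characters of factor 9 -/
def chi9 (h : Cyc 12 1) (i : Fin 1) : ZMod (p9 i) :=
  ((![3] : Fin 1 → ℕ) i : ZMod (p9 i)) ^ (Multiplicative.toAdd h).1.val *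
    ((![1] : Fin 1 → ℕ) i : ZMod (p9 i)) ^ (Multiplicative.toAdd h).2.val

theorem chi9_one : ∀ i, chi9 1 i = 1 := by decide +kernel

theorem chi9_mul : ∀ g h i, chi9 (g * h) i = chi9 g i * chi9 h i := by decide +kernel

theorem p9_prime : ∀ i, (p9 i).Prime := by decide +kernel

/-- factor 9 -/
abbrev T9 := Aff (scalarAct p9 chi9 chi9_one chi9_mul)

instance fin9 : Finite T9 :=
  have : ∀ i, NeZero (p9 i) := fun i => ⟨(p9_prime i).ne_zero⟩
  affFinite _

theorem solvable9 : Group.IsSolvable T9 := isSolvable_aff _ (Group.isSolvable_of_comm mul_comm)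

theorem count9 : HasCount T9 (tab [1, 2, 15, 16, 30, 7, 72, 14, 21, 28, 42, 84]) := by
  refine HasCount.mk ?_ fun d hd => ?_
  · rw [card_aff, Nat.card_pi]
    simp only [Nat.card_zmod, Nat.card_congr Multiplicative.toAdd, Nat.card_prod, Fin.prod_univ_succ,
      Fin.prod_univ_zero]
    decide +kernel
  · rw [powCount_scalar _ p9_prime]
    revert d
    decide +kernel

/-- primes of factor 10 -/
abbrev p10 : Fin 2 → ℕ := ![3, 3]

/-- characters of factor 10 -/
def chi10 (h : Cyc 4 1) (i : Fin 2) : ZMod (p10 i) :=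
  ((![2, 2] : Fin 2 → ℕ) i : ZMod (p10 i)) ^ (Multiplicative.toAdd h).1.val *
    ((![1, 1] : Fin 2 → ℕ) i : ZMod (p10 i)) ^ (Multiplicative.toAdd h).2.val

theorem chi10_one : ∀ i, chi10 1 i = 1 := by decide +kernel

theorem chi10_mul : ∀ g h i, chi10 (g * h) i = chi10 g i * chi10 h i := by decide +kernel

theorem p10_prime : ∀ i, (p10 i).Prime := by decide +kernel

/-- factor 10 -/
abbrev T10 := Aff (scalarAct p10 chi10 chi10_one chi10_mul)

instance fin10 : Finite T10 :=
  have : ∀ i, NeZero (p10 i) := fun i => ⟨(p10_prime i).ne_zero⟩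
  affFinite _

theorem solvable10 : Group.IsSolvable T10 := isSolvable_aff _ (Group.isSolvable_of_comm mul_comm)

theorem count10 : HasCount T10 (tab [1, 2, 9, 20, 18, 1, 36, 2, 9, 20, 18, 36]) := by
  refine HasCount.mk ?_ fun d hd => ?_
  · rw [card_aff, Nat.card_pi]
    simp only [Nat.card_zmod, Nat.card_congr Multiplicative.toAdd, Nat.card_prod, Fin.prod_univ_succ,
      Fin.prod_univ_zero]
    decide +kernel
  · rw [powCount_scalar _ p10_prime]
    revert d
    decide +kernel

/-- primes of factor 12 -/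
abbrev p12 : Fin 2 → ℕ := ![3, 3]

/-- characters of factor 12 -/
def chi12 (h : Cyc 2 1) (i : Fin 2) : ZMod (p12 i) :=
  ((![2, 2] : Fin 2 → ℕ) i : ZMod (p12 i)) ^ (Multiplicative.toAdd h).1.val *
    ((![1, 1] : Fin 2 → ℕ) i : ZMod (p12 i)) ^ (Multiplicative.toAdd h).2.val

theorem chi12_one : ∀ i, chi12 1 i = 1 := by decide +kernel

theorem chi12_mul : ∀ g h i, chi12 (g * h) i = chi12 g i * chi12 h i := by decide +kernel

theorem p12_prime : ∀ i, (p12 i).Prime := by decide +kernel

/-- factor 12 -/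
abbrev T12 := Aff (scalarAct p12 chi12 chi12_one chi12_mul)

instance fin12 : Finite T12 :=
  have : ∀ i, NeZero (p12 i) := fun i => ⟨(p12_prime i).ne_zero⟩
  affFinite _

theorem solvable12 : Group.IsSolvable T12 := isSolvable_aff _ (Group.isSolvable_of_comm mul_comm)

theorem count12 : HasCount T12 (tab [1, 10, 9, 10, 18, 1, 18, 10, 9, 10, 18, 18]) := by
  refine HasCount.mk ?_ fun d hd => ?_
  · rw [card_aff, Nat.card_pi]
    simp only [Nat.card_zmod, Nat.card_congr Multiplicative.toAdd, Nat.card_prod, Fin.prod_univ_succ,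
      Fin.prod_univ_zero]
    decide +kernel
  · rw [powCount_scalar _ p12_prime]
    revert d
    decide +kernel

/-- primes of factor 13 -/
abbrev p13 : Fin 3 → ℕ := ![7, 7, 7]

/-- characters of factor 13 -/
def chi13 (h : Cyc 2 12) (i : Fin 3) : ZMod (p13 i) :=
  ((![1, 6, 6] : Fin 3 → ℕ) i : ZMod (p13 i)) ^ (Multiplicative.toAdd h).1.val *
    ((![3, 1, 3] : Fin 3 → ℕ) i : ZMod (p13 i)) ^ (Multiplicative.toAdd h).2.val

theorem chi13_one : ∀ i, chi13 1 i = 1 := by decide +kernel

theorem chi13_mul : ∀ g h i, chi13 (g * h) i = chi13 g i * chi13 h i := by decide +kernel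

theorem p13_prime : ∀ i, (p13 i).Prime := by decide +kernel

/-- factor 13 -/
abbrev T13 := Aff (scalarAct p13 chi13 chi13_one chi13_mul)

instance fin13 : Finite T13 :=
  have : ∀ i, NeZero (p13 i) := fun i => ⟨(p13_prime i).ne_zero⟩
  affFinite _

theorem solvable13 : Group.IsSolvable T13 := isSolvable_aff _ (Group.isSolvable_of_comm mul_comm)

theorem count13 : HasCount T13 (tab [1, 100, 99, 296, 1668, 343, 3432, 1372, 1029, 2744, 4116, 8232]) := by
  refine HasCount.mk ?_ fun d hd => ?_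
  · rw [card_aff, Nat.card_pi]
    simp only [Nat.card_zmod, Nat.card_congr Multiplicative.toAdd, Nat.card_prod, Fin.prod_univ_succ,
      Fin.prod_univ_zero]
    decide +kernel
  · rw [powCount_scalar _ p13_prime]
    revert d
    decide +kernel

/-- primes of factor 14 -/
abbrev p14 : Fin 3 → ℕ := ![3, 7, 7]

/-- characters of factor 14 -/
def chi14 (h : Cyc 4 1) (i : Fin 3) : ZMod (p14 i) :=
  ((![2, 6, 6] : Fin 3 → ℕ) i : ZMod (p14 i)) ^ (Multiplicative.toAdd h).1.val *
    ((![1, 1, 1] : Fin 3 → ℕ) i : ZMod (p14 i)) ^ (Multiplicative.toAdd h).2.val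

theorem chi14_one : ∀ i, chi14 1 i = 1 := by decide +kernel

theorem chi14_mul : ∀ g h i, chi14 (g * h) i = chi14 g i * chi14 h i := by decide +kernel

theorem p14_prime : ∀ i, (p14 i).Prime := by decide +kernel

/-- factor 14 -/
abbrev T14 := Aff (scalarAct p14 chi14 chi14_one chi14_mul)

instance fin14 : Finite T14 :=
  have : ∀ i, NeZero (p14 i) := fun i => ⟨(p14_prime i).ne_zero⟩
  affFinite _

theorem solvable14 : Group.IsSolvable T14 := isSolvable_aff _ (Group.isSolvable_of_comm mul_comm)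

theorem count14 : HasCount T14 (tab [1, 2, 3, 296, 6, 49, 300, 98, 147, 392, 294, 588]) := by
  refine HasCount.mk ?_ fun d hd => ?_
  · rw [card_aff, Nat.card_pi]
    simp only [Nat.card_zmod, Nat.card_congr Multiplicative.toAdd, Nat.card_prod, Fin.prod_univ_succ,
      Fin.prod_univ_zero]
    decide +kernel
  · rw [powCount_scalar _ p14_prime]
    revert d
    decide +kernel

/-- primes of factor 15 -/
abbrev p15 : Fin 3 → ℕ := ![7, 7, 7]

/-- characters of factor 15 -/
def chi15 (h : Cyc 6 1) (i : Fin 3) : ZMod (p15 i) :=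
  ((![2, 3, 6] : Fin 3 → ℕ) i : ZMod (p15 i)) ^ (Multiplicative.toAdd h).1.val *
    ((![1, 1, 1] : Fin 3 → ℕ) i : ZMod (p15 i)) ^ (Multiplicative.toAdd h).2.val

theorem chi15_one : ∀ i, chi15 1 i = 1 := by decide +kernel

theorem chi15_mul : ∀ g h i, chi15 (g * h) i = chi15 g i * chi15 h i := by decide +kernel

theorem p15_prime : ∀ i, (p15 i).Prime := by decide +kernel

/-- factor 15 -/
abbrev T15 := Aff (scalarAct p15 chi15 chi15_one chi15_mul)

instance fin15 : Finite T15 :=
  have : ∀ i, NeZero (p15 i) := fun i => ⟨(p15_prime i).ne_zero⟩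
  affFinite _

theorem solvable15 : Group.IsSolvable T15 := isSolvable_aff _ (Group.isSolvable_of_comm mul_comm)

theorem count15 : HasCount T15 (tab [1, 50, 99, 50, 834, 343, 834, 686, 1029, 686, 2058, 2058]) := by
  refine HasCount.mk ?_ fun d hd => ?_
  · rw [card_aff, Nat.card_pi]
    simp only [Nat.card_zmod, Nat.card_congr Multiplicative.toAdd, Nat.card_prod, Fin.prod_univ_succ,
      Fin.prod_univ_zero]
    decide +kernel
  · rw [powCount_scalar _ p15_prime]
    revert d
    decide +kernel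

/-- primes of factor 16 -/
abbrev p16 : Fin 3 → ℕ := ![7, 7, 7]

/-- characters of factor 16 -/
def chi16 (h : Cyc 12 1) (i : Fin 3) : ZMod (p16 i) :=
  ((![2, 3, 6] : Fin 3 → ℕ) i : ZMod (p16 i)) ^ (Multiplicative.toAdd h).1.val *
    ((![1, 1, 1] : Fin 3 → ℕ) i : ZMod (p16 i)) ^ (Multiplicative.toAdd h).2.val

theorem chi16_one : ∀ i, chi16 1 i = 1 := by decide +kernel

theorem chi16_mul : ∀ g h i, chi16 (g * h) i = chi16 g i * chi16 h i := by decide +kernel

theorem p16_prime : ∀ i, (p16 i).Prime := by decide +kernel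

/-- factor 16 -/
abbrev T16 := Aff (scalarAct p16 chi16 chi16_one chi16_mul)

instance fin16 : Finite T16 :=
  have : ∀ i, NeZero (p16 i) := fun i => ⟨(p16_prime i).ne_zero⟩
  affFinite _

theorem solvable16 : Group.IsSolvable T16 := isSolvable_aff _ (Group.isSolvable_of_comm mul_comm)

theorem count16 : HasCount T16 (tab [1, 2, 99, 100, 198, 343, 1668, 686, 1029, 1372, 2058, 4116]) := by
  refine HasCount.mk ?_ fun d hd => ?_
  · rw [card_aff, Nat.card_pi]
    simp only [Nat.card_zmod, Nat.card_congr Multiplicative.toAdd, Nat.card_prod, Fin.prod_univ_succ,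
      Fin.prod_univ_zero]
    decide +kernel
  · rw [powCount_scalar _ p16_prime]
    revert d
    decide +kernel

/-- primes of factor 17 -/
abbrev p17 : Fin 1 → ℕ := ![7]

/-- characters of factor 17 -/
def chi17 (h : Cyc 2 1) (i : Fin 1) : ZMod (p17 i) :=
  ((![6] : Fin 1 → ℕ) i : ZMod (p17 i)) ^ (Multiplicative.toAdd h).1.val *
    ((![1] : Fin 1 → ℕ) i : ZMod (p17 i)) ^ (Multiplicative.toAdd h).2.val

theorem chi17_one : ∀ i, chi17 1 i = 1 := by decide +kernel

theorem chi17_mul : ∀ g h i, chi17 (g * h) i = chi17 g i * chi17 h i := by decide +kernel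

theorem p17_prime : ∀ i, (p17 i).Prime := by decide +kernel

/-- factor 17 -/
abbrev T17 := Aff (scalarAct p17 chi17 chi17_one chi17_mul)

instance fin17 : Finite T17 :=
  have : ∀ i, NeZero (p17 i) := fun i => ⟨(p17_prime i).ne_zero⟩
  affFinite _

theorem solvable17 : Group.IsSolvable T17 := isSolvable_aff _ (Group.isSolvable_of_comm mul_comm)

theorem count17 : HasCount T17 (tab [1, 8, 1, 8, 8, 7, 8, 14, 7, 14, 14, 14]) := by
  refine HasCount.mk ?_ fun d hd => ?_
  · rw [card_aff, Nat.card_pi]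
    simp only [Nat.card_zmod, Nat.card_congr Multiplicative.toAdd, Nat.card_prod, Fin.prod_univ_succ,
      Fin.prod_univ_zero]
    decide +kernel
  · rw [powCount_scalar _ p17_prime]
    revert d
    decide +kernel

/-- primes of factor 18 -/
abbrev p18 : Fin 2 → ℕ := ![7, 7]

/-- characters of factor 18 -/
def chi18 (h : Cyc 2 1) (i : Fin 2) : ZMod (p18 i) :=
  ((![6, 6] : Fin 2 → ℕ) i : ZMod (p18 i)) ^ (Multiplicative.toAdd h).1.val *
    ((![1, 1] : Fin 2 → ℕ) i : ZMod (p18 i)) ^ (Multiplicative.toAdd h).2.val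

theorem chi18_one : ∀ i, chi18 1 i = 1 := by decide +kernel

theorem chi18_mul : ∀ g h i, chi18 (g * h) i = chi18 g i * chi18 h i := by decide +kernel

theorem p18_prime : ∀ i, (p18 i).Prime := by decide +kernel

/-- factor 18 -/
abbrev T18 := Aff (scalarAct p18 chi18 chi18_one chi18_mul)

instance fin18 : Finite T18 :=
  have : ∀ i, NeZero (p18 i) := fun i => ⟨(p18_prime i).ne_zero⟩
  affFinite _

theorem solvable18 : Group.IsSolvable T18 := isSolvable_aff _ (Group.isSolvable_of_comm mul_comm)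

theorem count18 : HasCount T18 (tab [1, 50, 1, 50, 50, 49, 50, 98, 49, 98, 98, 98]) := by
  refine HasCount.mk ?_ fun d hd => ?_
  · rw [card_aff, Nat.card_pi]
    simp only [Nat.card_zmod, Nat.card_congr Multiplicative.toAdd, Nat.card_prod, Fin.prod_univ_succ,
      Fin.prod_univ_zero]
    decide +kernel
  · rw [powCount_scalar _ p18_prime]
    revert d
    decide +kernel

/-- primes of factor 19 -/
abbrev p19 : Fin 1 → ℕ := ![7]

/-- characters of factor 19 -/
def chi19 (h : Cyc 4 1) (i : Fin 1) : ZMod (p19 i) :=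
  ((![6] : Fin 1 → ℕ) i : ZMod (p19 i)) ^ (Multiplicative.toAdd h).1.val *
    ((![1] : Fin 1 → ℕ) i : ZMod (p19 i)) ^ (Multiplicative.toAdd h).2.val

theorem chi19_one : ∀ i, chi19 1 i = 1 := by decide +kernel

theorem chi19_mul : ∀ g h i, chi19 (g * h) i = chi19 g i * chi19 h i := by decide +kernel

theorem p19_prime : ∀ i, (p19 i).Prime := by decide +kernel

/-- factor 19 -/
abbrev T19 := Aff (scalarAct p19 chi19 chi19_one chi19_mul)

instance fin19 : Finite T19 :=
  have : ∀ i, NeZero (p19 i) := fun i => ⟨(p19_prime i).ne_zero⟩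
  affFinite _

theorem solvable19 : Group.IsSolvable T19 := isSolvable_aff _ (Group.isSolvable_of_comm mul_comm)

theorem count19 : HasCount T19 (tab [1, 2, 1, 16, 2, 7, 16, 14, 7, 28, 14, 28]) := by
  refine HasCount.mk ?_ fun d hd => ?_
  · rw [card_aff, Nat.card_pi]
    simp only [Nat.card_zmod, Nat.card_congr Multiplicative.toAdd, Nat.card_prod, Fin.prod_univ_succ,
      Fin.prod_univ_zero]
    decide +kernel
  · rw [powCount_scalar _ p19_prime]
    revert d
    decide +kernel

/-- primes of factor 20 -/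
abbrev p20 : Fin 2 → ℕ := ![7, 7]

/-- characters of factor 20 -/
def chi20 (h : Cyc 4 1) (i : Fin 2) : ZMod (p20 i) :=
  ((![6, 6] : Fin 2 → ℕ) i : ZMod (p20 i)) ^ (Multiplicative.toAdd h).1.val *
    ((![1, 1] : Fin 2 → ℕ) i : ZMod (p20 i)) ^ (Multiplicative.toAdd h).2.val

theorem chi20_one : ∀ i, chi20 1 i = 1 := by decide +kernel

theorem chi20_mul : ∀ g h i, chi20 (g * h) i = chi20 g i * chi20 h i := by decide +kernel

theorem p20_prime : ∀ i, (p20 i).Prime := by decide +kernel

/-- factor 20 -/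
abbrev T20 := Aff (scalarAct p20 chi20 chi20_one chi20_mul)

instance fin20 : Finite T20 :=
  have : ∀ i, NeZero (p20 i) := fun i => ⟨(p20_prime i).ne_zero⟩
  affFinite _

theorem solvable20 : Group.IsSolvable T20 := isSolvable_aff _ (Group.isSolvable_of_comm mul_comm)

theorem count20 : HasCount T20 (tab [1, 2, 1, 100, 2, 49, 100, 98, 49, 196, 98, 196]) := by
  refine HasCount.mk ?_ fun d hd => ?_
  · rw [card_aff, Nat.card_pi]
    simp only [Nat.card_zmod, Nat.card_congr Multiplicative.toAdd, Nat.card_prod, Fin.prod_univ_succ,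
      Fin.prod_univ_zero]
    decide +kernel
  · rw [powCount_scalar _ p20_prime]
    revert d
    decide +kernel

/-- primes of factor 21 -/
abbrev p21 : Fin 3 → ℕ := ![3, 3, 7]

/-- characters of factor 21 -/
def chi21 (h : Cyc 2 1) (i : Fin 3) : ZMod (p21 i) :=
  ((![2, 2, 6] : Fin 3 → ℕ) i : ZMod (p21 i)) ^ (Multiplicative.toAdd h).1.val *
    ((![1, 1, 1] : Fin 3 → ℕ) i : ZMod (p21 i)) ^ (Multiplicative.toAdd h).2.val

theorem chi21_one : ∀ i, chi21 1 i = 1 := by decide +kernel

theorem chi21_mul : ∀ g h i, chi21 (g * h) i = chi21 g i * chi21 h i := by decide +kernel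

theorem p21_prime : ∀ i, (p21 i).Prime := by decide +kernel

/-- factor 21 -/
abbrev T21 := Aff (scalarAct p21 chi21 chi21_one chi21_mul)

instance fin21 : Finite T21 :=
  have : ∀ i, NeZero (p21 i) := fun i => ⟨(p21_prime i).ne_zero⟩
  affFinite _

theorem solvable21 : Group.IsSolvable T21 := isSolvable_aff _ (Group.isSolvable_of_comm mul_comm)

theorem count21 : HasCount T21 (tab [1, 64, 9, 64, 72, 7, 72, 70, 63, 70, 126, 126]) := by
  refine HasCount.mk ?_ fun d hd => ?_
  · rw [card_aff, Nat.card_pi]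
    simp only [Nat.card_zmod, Nat.card_congr Multiplicative.toAdd, Nat.card_prod, Fin.prod_univ_succ,
      Fin.prod_univ_zero]
    decide +kernel
  · rw [powCount_scalar _ p21_prime]
    revert d
    decide +kernel

/-- primes of factor 22 -/
abbrev p22 : Fin 2 → ℕ := ![7, 7]

/-- characters of factor 22 -/
def chi22 (h : Cyc 6 1) (i : Fin 2) : ZMod (p22 i) :=
  ((![3, 6] : Fin 2 → ℕ) i : ZMod (p22 i)) ^ (Multiplicative.toAdd h).1.val *
    ((![1, 1] : Fin 2 → ℕ) i : ZMod (p22 i)) ^ (Multiplicative.toAdd h).2.val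

theorem chi22_one : ∀ i, chi22 1 i = 1 := by decide +kernel

theorem chi22_mul : ∀ g h i, chi22 (g * h) i = chi22 g i * chi22 h i := by decide +kernel

theorem p22_prime : ∀ i, (p22 i).Prime := by decide +kernel

/-- factor 22 -/
abbrev T22 := Aff (scalarAct p22 chi22 chi22_one chi22_mul)

instance fin22 : Finite T22 :=
  have : ∀ i, NeZero (p22 i) := fun i => ⟨(p22_prime i).ne_zero⟩
  affFinite _

theorem solvable22 : Group.IsSolvable T22 := isSolvable_aff _ (Group.isSolvable_of_comm mul_comm)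

theorem count22 : HasCount T22 (tab [1, 50, 15, 50, 162, 49, 162, 98, 147, 98, 294, 294]) := by
  refine HasCount.mk ?_ fun d hd => ?_
  · rw [card_aff, Nat.card_pi]
    simp only [Nat.card_zmod, Nat.card_congr Multiplicative.toAdd, Nat.card_prod, Fin.prod_univ_succ,
      Fin.prod_univ_zero]
    decide +kernel
  · rw [powCount_scalar _ p22_prime]
    revert d
    decide +kernel

/-- primes of factor 23 -/
abbrev p23 : Fin 3 → ℕ := ![3, 3, 7]

/-- characters of factor 23 -/
def chi23 (h : Cyc 4 1) (i : Fin 3) : ZMod (p23 i) :=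
  ((![2, 2, 6] : Fin 3 → ℕ) i : ZMod (p23 i)) ^ (Multiplicative.toAdd h).1.val *
    ((![1, 1, 1] : Fin 3 → ℕ) i : ZMod (p23 i)) ^ (Multiplicative.toAdd h).2.val

theorem chi23_one : ∀ i, chi23 1 i = 1 := by decide +kernel

theorem chi23_mul : ∀ g h i, chi23 (g * h) i = chi23 g i * chi23 h i := by decide +kernel

theorem p23_prime : ∀ i, (p23 i).Prime := by decide +kernel

/-- factor 23 -/
abbrev T23 := Aff (scalarAct p23 chi23 chi23_one chi23_mul)

instance fin23 : Finite T23 :=
  have : ∀ i, NeZero (p23 i) := fun i => ⟨(p23_prime i).ne_zero⟩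
  affFinite _

theorem solvable23 : Group.IsSolvable T23 := isSolvable_aff _ (Group.isSolvable_of_comm mul_comm)

theorem count23 : HasCount T23 (tab [1, 2, 9, 128, 18, 7, 144, 14, 63, 140, 126, 252]) := by
  refine HasCount.mk ?_ fun d hd => ?_
  · rw [card_aff, Nat.card_pi]
    simp only [Nat.card_zmod, Nat.card_congr Multiplicative.toAdd, Nat.card_prod, Fin.prod_univ_succ,
      Fin.prod_univ_zero]
    decide +kernel
  · rw [powCount_scalar _ p23_prime]
    revert d
    decide +kernel

/-- primes of factor 24 -/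
abbrev p24 : Fin 1 → ℕ := ![7]

/-- characters of factor 24 -/
def chi24 (h : Cyc 1 1) (i : Fin 1) : ZMod (p24 i) :=
  ((![1] : Fin 1 → ℕ) i : ZMod (p24 i)) ^ (Multiplicative.toAdd h).1.val *
    ((![1] : Fin 1 → ℕ) i : ZMod (p24 i)) ^ (Multiplicative.toAdd h).2.val

theorem chi24_one : ∀ i, chi24 1 i = 1 := by decide +kernel

theorem chi24_mul : ∀ g h i, chi24 (g * h) i = chi24 g i * chi24 h i := by decide +kernel

theorem p24_prime : ∀ i, (p24 i).Prime := by decide +kernel

/-- factor 24 -/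
abbrev T24 := Aff (scalarAct p24 chi24 chi24_one chi24_mul)

instance fin24 : Finite T24 :=
  have : ∀ i, NeZero (p24 i) := fun i => ⟨(p24_prime i).ne_zero⟩
  affFinite _

theorem solvable24 : Group.IsSolvable T24 := isSolvable_aff _ (Group.isSolvable_of_comm mul_comm)

theorem count24 : HasCount T24 (tab [1, 1, 1, 1, 1, 7, 1, 7, 7, 7, 7, 7]) := by
  refine HasCount.mk ?_ fun d hd => ?_
  · rw [card_aff, Nat.card_pi]
    simp only [Nat.card_zmod, Nat.card_congr Multiplicative.toAdd, Nat.card_prod, Fin.prod_univ_succ,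
      Fin.prod_univ_zero]
    decide +kernel
  · rw [powCount_scalar _ p24_prime]
    revert d
    decide +kernel

/-- primes of factor 25 -/
abbrev p25 : Fin 1 → ℕ := ![7]

/-- characters of factor 25 -/
def chi25 (h : Cyc 3 1) (i : Fin 1) : ZMod (p25 i) :=
  ((![2] : Fin 1 → ℕ) i : ZMod (p25 i)) ^ (Multiplicative.toAdd h).1.val *
    ((![1] : Fin 1 → ℕ) i : ZMod (p25 i)) ^ (Multiplicative.toAdd h).2.val

theorem chi25_one : ∀ i, chi25 1 i = 1 := by decide +kernel

theorem chi25_mul : ∀ g h i, chi25 (g * h) i = chi25 g i * chi25 h i := by decide +kernel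

theorem p25_prime : ∀ i, (p25 i).Prime := by decide +kernel

/-- factor 25 -/
abbrev T25 := Aff (scalarAct p25 chi25 chi25_one chi25_mul)

instance fin25 : Finite T25 :=
  have : ∀ i, NeZero (p25 i) := fun i => ⟨(p25_prime i).ne_zero⟩
  affFinite _

theorem solvable25 : Group.IsSolvable T25 := isSolvable_aff _ (Group.isSolvable_of_comm mul_comm)

theorem count25 : HasCount T25 (tab [1, 1, 15, 1, 15, 7, 15, 7, 21, 7, 21, 21]) := by
  refine HasCount.mk ?_ fun d hd => ?_
  · rw [card_aff, Nat.card_pi]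
    simp only [Nat.card_zmod, Nat.card_congr Multiplicative.toAdd, Nat.card_prod, Fin.prod_univ_succ,
      Fin.prod_univ_zero]
    decide +kernel
  · rw [powCount_scalar _ p25_prime]
    revert d
    decide +kernel

/-- primes of factor 26 -/
abbrev p26 : Fin 2 → ℕ := ![7, 7]

/-- characters of factor 26 -/
def chi26 (h : Cyc 12 1) (i : Fin 2) : ZMod (p26 i) :=
  ((![3, 6] : Fin 2 → ℕ) i : ZMod (p26 i)) ^ (Multiplicative.toAdd h).1.val *
    ((![1, 1] : Fin 2 → ℕ) i : ZMod (p26 i)) ^ (Multiplicative.toAdd h).2.val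

theorem chi26_one : ∀ i, chi26 1 i = 1 := by decide +kernel

theorem chi26_mul : ∀ g h i, chi26 (g * h) i = chi26 g i * chi26 h i := by decide +kernel

theorem p26_prime : ∀ i, (p26 i).Prime := by decide +kernel

/-- factor 26 -/
abbrev T26 := Aff (scalarAct p26 chi26 chi26_one chi26_mul)

instance fin26 : Finite T26 :=
  have : ∀ i, NeZero (p26 i) := fun i => ⟨(p26_prime i).ne_zero⟩
  affFinite _

theorem solvable26 : Group.IsSolvable T26 := isSolvable_aff _ (Group.isSolvable_of_comm mul_comm)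

theorem count26 : HasCount T26 (tab [1, 2, 15, 100, 30, 49, 324, 98, 147, 196, 294, 588]) := by
  refine HasCount.mk ?_ fun d hd => ?_
  · rw [card_aff, Nat.card_pi]
    simp only [Nat.card_zmod, Nat.card_congr Multiplicative.toAdd, Nat.card_prod, Fin.prod_univ_succ,
      Fin.prod_univ_zero]
    decide +kernel
  · rw [powCount_scalar _ p26_prime]
    revert d
    decide +kernel

/-- An order three automorphism of the four group. -/
def rot (u : ZMod 2 × ZMod 2) : ZMod 2 × ZMod 2 := (u.2, u.1 + u.2)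

/-- An involutory automorphism of the four group. -/
def swp (u : ZMod 2 × ZMod 2) : ZMod 2 × ZMod 2 := (u.2, u.1)

/-- the symmetric group on three points -/
def sgnChi (h : Multiplicative (ZMod 2)) (i : Fin 1) : ZMod ((![3] : Fin 1 → ℕ) i) :=
  ((2 : ℕ) : ZMod ((![3] : Fin 1 → ℕ) i)) ^ (Multiplicative.toAdd h).val

theorem sgnChi_one : ∀ i, sgnChi 1 i = 1 := by decide +kernel

theorem sgnChi_mul : ∀ g h i, sgnChi (g * h) i = sgnChi g i * sgnChi h i := by decide +kernel

/-- `S₃` -/
abbrev SymThree := Aff (scalarAct (![3] : Fin 1 → ℕ) sgnChi sgnChi_one sgnChi_mul)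

/-- `7 : 3` -/
def frobChi (h : Multiplicative (ZMod 3)) (i : Fin 1) : ZMod ((![7] : Fin 1 → ℕ) i) :=
  ((2 : ℕ) : ZMod ((![7] : Fin 1 → ℕ) i)) ^ (Multiplicative.toAdd h).val

theorem frobChi_one : ∀ i, frobChi 1 i = 1 := by decide +kernel

theorem frobChi_mul : ∀ g h i, frobChi (g * h) i = frobChi g i * frobChi h i := by decide +kernel

/-- `7 : 3` -/
abbrev Frob21 := Aff (scalarAct (![7] : Fin 1 → ℕ) frobChi frobChi_one frobChi_mul)

instance fact3 : ∀ i, NeZero ((![3] : Fin 1 → ℕ) i) := fun i => ⟨by fin_cases i; simp⟩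

instance fact7 : ∀ i, NeZero ((![7] : Fin 1 → ℕ) i) := fun i => ⟨by fin_cases i; simp⟩

instance affFintype {V H : Type} [AddCommGroup V] [Group H] [Fintype V] [Fintype H]
    (A : Act V H) : Fintype (Aff A) :=
  Fintype.ofEquiv _ (affEquiv A).symm

instance affDecEq {V H : Type} [AddCommGroup V] [Group H] [DecidableEq V] [DecidableEq H]
    (A : Act V H) : DecidableEq (Aff A) := (affEquiv A).decidableEq

/-- action -/
def actA4 (h : Multiplicative (ZMod 3)) : ZMod 2 × ZMod 2 → ZMod 2 × ZMod 2 :=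
  rot^[(Multiplicative.toAdd h).val]

theorem actAlt4_add : ∀ h u v, actA4 h (u + v) = actA4 h u + actA4 h v := by decide +kernel

theorem actAlt4_one : ∀ v, actA4 1 v = v := by decide +kernel

theorem actAlt4_mul : ∀ g h v, actA4 (g * h) v = actA4 g (actA4 h v) := by decide +kernel

/-- the action -/
def AAlt4 : Act (ZMod 2 × ZMod 2) (Multiplicative (ZMod 3)) := ⟨actA4, actAlt4_add, actAlt4_one, actAlt4_mul⟩

/-- factor -/
abbrev Alt4 := Aff AAlt4

theorem solvableAlt4 : Group.IsSolvable Alt4 := isSolvable_aff _ (Group.isSolvable_of_comm mul_comm)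

theorem countAlt4 : HasCount Alt4 (tab [1, 4, 9, 4, 12, 1, 12, 4, 9, 4, 12, 12]) := by
  refine HasCount.mk ?_ fun d hd => ?_
  · rw [card_aff, Nat.card_eq_fintype_card, Nat.card_eq_fintype_card]
    decide +kernel
  · rw [powCount_aff]
    revert d
    decide +kernel

/-- action -/
def actS4 (h : SymThree) (u : ZMod 2 × ZMod 2) : ZMod 2 × ZMod 2 :=
  rot^[(h.v 0).val] (swp^[(Multiplicative.toAdd h.h).val] u)

theorem actSym4_add : ∀ h u v, actS4 h (u + v) = actS4 h u + actS4 h v := by decide +kernel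

theorem actSym4_one : ∀ v, actS4 1 v = v := by decide +kernel

theorem actSym4_mul : ∀ g h v, actS4 (g * h) v = actS4 g (actS4 h v) := by decide +kernel

/-- the action -/
def ASym4 : Act (ZMod 2 × ZMod 2) SymThree := ⟨actS4, actSym4_add, actSym4_one, actSym4_mul⟩

/-- factor -/
abbrev Sym4 := Aff ASym4

theorem solvableSym4 : Group.IsSolvable Sym4 := isSolvable_aff _ (isSolvable_aff _ (Group.isSolvable_of_comm mul_comm))

theorem countSym4 : HasCount Sym4 (tab [1, 10, 9, 16, 18, 1, 24, 10, 9, 16, 18, 24]) := by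
  refine HasCount.mk ?_ fun d hd => ?_
  · rw [card_aff, Nat.card_eq_fintype_card, Nat.card_eq_fintype_card]
    decide +kernel
  · rw [powCount_aff]
    revert d
    decide +kernel

/-- multiplication by a generator of `GF(8)` -/
def mulX (u : ZMod 2 × ZMod 2 × ZMod 2) : ZMod 2 × ZMod 2 × ZMod 2 :=
  (u.2.2, u.1 + u.2.2, u.2.1)

/-- the Frobenius map of `GF(8)` -/
def frobSq (u : ZMod 2 × ZMod 2 × ZMod 2) : ZMod 2 × ZMod 2 × ZMod 2 :=
  (u.1, u.2.2, u.2.1 + u.2.2)

/-- action -/
def actGamma (h : Frob21) (u : ZMod 2 × ZMod 2 × ZMod 2) : ZMod 2 × ZMod 2 × ZMod 2 :=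
  mulX^[(h.v 0).val] (frobSq^[(Multiplicative.toAdd h.h).val] u)

theorem actAGammaL18_add : ∀ h u v, actGamma h (u + v) = actGamma h u + actGamma h v := by decide +kernel

theorem actAGammaL18_one : ∀ v, actGamma 1 v = v := by decide +kernel

theorem actAGammaL18_mul : ∀ g h v, actGamma (g * h) v = actGamma g (actGamma h v) := by decide +kernel

/-- the action -/
def AAGammaL18 : Act (ZMod 2 × ZMod 2 × ZMod 2) Frob21 := ⟨actGamma, actAGammaL18_add, actAGammaL18_one, actAGammaL18_mul⟩

/-- factor -/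
abbrev AGammaL18 := Aff AAGammaL18

theorem solvableAGammaL18 : Group.IsSolvable AGammaL18 := isSolvable_aff _ (isSolvable_aff _ (Group.isSolvable_of_comm mul_comm))

theorem countAGammaL18 : HasCount AGammaL18 (tab [1, 8, 57, 8, 120, 49, 120, 56, 105, 56, 168, 168]) := by
  refine HasCount.mk ?_ fun d hd => ?_
  · rw [card_aff, Nat.card_eq_fintype_card, Nat.card_eq_fintype_card]
    decide +kernel
  · rw [powCount_aff]
    revert d
    decide +kernel

/-- `SL(3,2)`, isomorphic to `PSL(2,7)`. -/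
abbrev L27 := Matrix.SpecialLinearGroup (Fin 3) (ZMod 2)

theorem countL27 : HasCount L27 (tab [1, 22, 57, 64, 78, 49, 120, 70, 105, 112, 126, 168]) := by
  refine HasCount.mk ?_ fun d hd => ?_
  · rw [Nat.card_eq_fintype_card]
    decide +kernel
  · rw [powCount, Nat.card_eq_fintype_card, Fintype.card_subtype]
    revert d
    decide +kernel

/-- The elementary transvection. -/
def elem (i j : Fin 3) (h : i ≠ j) : L27 :=
  ⟨1 + Matrix.single i j 1, by revert i j; decide +kernel⟩

theorem elem_comm : ∀ i j k : Fin 3, ∀ (hij : i ≠ j) (hik : i ≠ k) (hkj : k ≠ j),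
    elem i k hik * elem k j hkj * (elem i k hik)⁻¹ * (elem k j hkj)⁻¹ = elem i j hij := by
  decide +kernel

theorem not_isSolvable_L27 : ¬ Group.IsSolvable L27 := fun hs => by
  obtain ⟨n, hn⟩ := (Group.isSolvable_def _).1 hs
  have hall : ∀ m, ∀ i j : Fin 3, ∀ h : i ≠ j, elem i j h ∈ derivedSeries L27 m := by
    intro m
    induction m with
    | zero => intros; simp
    | succ m ih =>
      intro i j h
      obtain ⟨k, hik, hkj⟩ : ∃ k : Fin 3, i ≠ k ∧ k ≠ j := by revert i j; decide +kernel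
      rw [← elem_comm i j k h hik hkj, derivedSeries_succ]
      exact Subgroup.commutator_mem_commutator (ih i k hik) (ih k j hkj)
  have h1 := hall n 0 1 (by decide)
  rw [hn, Subgroup.mem_bot] at h1
  revert h1
  decide +kernel

/-- The soluble group. -/
abbrev GSolv := (Fin 6 → T0) ×
    (Fin 6 → AGammaL18) ×
    (Fin 6 → T2) ×
    (Fin 6 → T7) ×
    (Fin 30 → T9) ×
    (Fin 12 → T10) ×
    (Fin 6 → Sym4) ×
    (Fin 6 → T14) ×
    (Fin 6 → T15) ×
    (Fin 3 → T19) ×
    (Fin 7 → T20) ×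
    (Fin 12 → T21) ×
    (Fin 6 → T22) ×
    (Fin 2 → T24)

/-- The insoluble group. -/
abbrev GPerf := (Fin 6 → L27) ×
    (Fin 18 → T3) ×
    (Fin 6 → T4) ×
    (Fin 18 → T5) ×
    (Fin 6 → Alt4) ×
    (Fin 6 → T8) ×
    (Fin 12 → T12) ×
    (Fin 6 → T13) ×
    (Fin 6 → T16) ×
    (Fin 9 → T17) ×
    (Fin 3 → T18) ×
    (Fin 12 → T23) ×
    (Fin 8 → T25) ×
    (Fin 10 → T26)

theorem isSolvable_GSolv : Group.IsSolvable GSolv := by

  have := isSolvable_pi T0 solvable0 6
  have := isSolvable_pi AGammaL18 solvableAGammaL18 6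
  have := isSolvable_pi T2 solvable2 6
  have := isSolvable_pi T7 solvable7 6
  have := isSolvable_pi T9 solvable9 30
  have := isSolvable_pi T10 solvable10 12
  have := isSolvable_pi Sym4 solvableSym4 6
  have := isSolvable_pi T14 solvable14 6
  have := isSolvable_pi T15 solvable15 6
  have := isSolvable_pi T19 solvable19 3
  have := isSolvable_pi T20 solvable20 7
  have := isSolvable_pi T21 solvable21 12
  have := isSolvable_pi T22 solvable22 6
  have := isSolvable_pi T24 solvable24 2
  infer_instance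

theorem not_isSolvable_GPerf : ¬ Group.IsSolvable GPerf := fun hs => by
  let π : GPerf →* L27 :=
    { toFun := fun x => x.1 0, map_one' := rfl, map_mul' := fun _ _ => rfl }
  exact not_isSolvable_L27 (Group.isSolvable_of_surjective (f := π) fun x => ⟨(fun _ => x, 1), rfl⟩)

theorem powCount_eq (n : ℕ) : powCount GSolv n = powCount GPerf n := by
  rw [((count0.pi 6).prod ((countAGammaL18.pi 6).prod ((count2.pi 6).prod ((count7.pi 6).prod ((count9.pi 30).prod ((count10.pi 12).prod ((countSym4.pi 6).prod ((count14.pi 6).prod ((count15.pi 6).prod ((count19.pi 3).prod ((count20.pi 7).prod ((count21.pi 12).prod ((count22.pi 6).prod (count24.pi 2)))))))))))))) n,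
    ((countL27.pi 6).prod ((count3.pi 18).prod ((count4.pi 6).prod ((count5.pi 18).prod ((countAlt4.pi 6).prod ((count8.pi 6).prod ((count12.pi 12).prod ((count13.pi 6).prod ((count16.pi 6).prod ((count17.pi 9).prod ((count18.pi 3).prod ((count23.pi 12).prod ((count25.pi 8).prod (count26.pi 10)))))))))))))) n]
  generalize hd : n.gcd 84 = d
  have hmem : d ∈ divs := hd ▸ gcd_mem_divs n
  clear hd
  revert d
  decide +kernel

end Cfsg.Agent.Lib.OrderType
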